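import Cfsg.Agent.Lib.Helper12.PG63.PM

/-!
# PG63 (S3664), package [CH]: the key identity

Route: over any commutative ring, `h := M + M♯` (`M♯` the symplectic adjoint) satisfies
`h * h - trace M • h + pf4 M • 1 = 0` identically; in characteristic two `M♯ = J Mᵀ J = M⁻¹`
for form-preserving `M`, and `pf4 M = (trace M) ^ 4` by the `star4` condition.
-/

set_option autoImplicit false

namespace Cfsg.Agent.Lib.Helper12.PG63

open Matrix Cfsg.Agent.Lib.Helper14.PG63

universe u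

/-- the symplectic adjoint (with signs) -/
def sadj {R : Type u} [CommRing R] (M : Matrix (Fin 4) (Fin 4) R) : Matrix (Fin 4) (Fin 4) R :=
  !![M 3 3, M 2 3, -M 1 3, -M 0 3; M 3 2, M 2 2, -M 1 2, -M 0 2;
     -M 3 1, -M 2 1, M 1 1, M 0 1; -M 3 0, -M 2 0, M 1 0, M 0 0]

/-- the Pfaffian of `Ω (M + M♯)` -/
def pf4 {R : Type u} [CommRing R] (M : Matrix (Fin 4) (Fin 4) R) : R :=
  -(M 3 1 - M 2 0) * (M 1 3 - M 0 2) - (M 3 2 + M 1 0) * (M 2 3 + M 0 1) +
    (M 3 3 + M 0 0) * (M 2 2 + M 1 1)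

/-- the quadratic identity for `M + M♯` -/
theorem quad_id {R : Type u} [CommRing R] (M : Matrix (Fin 4) (Fin 4) R) :
    (M + sadj M) * (M + sadj M) - M.trace • (M + sadj M) +
      pf4 M • (1 : Matrix (Fin 4) (Fin 4) R) = 0 := by
  ext i j
  fin_cases i <;> fin_cases j <;>
    simp [sadj, pf4, Matrix.mul_apply, Fin.sum_univ_four, Matrix.trace] <;>
    ring

section

variable {F : Type u} [Field F] [CharP F 2]

theorem sadj_eq (M : Matrix (Fin 4) (Fin 4) F) : sadj M = J4 F * Mᵀ * J4 F := by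
  ext i j
  fin_cases i <;> fin_cases j <;>
    simp [sadj, J4, Matrix.mul_apply, Fin.sum_univ_four, CharTwo.neg_eq, Matrix.vecMul,
      dotProduct]

theorem pow4_add4 (a b c d : F) : (a + b + c + d) ^ 4 = a ^ 4 + b ^ 4 + c ^ 4 + d ^ 4 := by
  have e : ∀ x : F, x ^ 4 = iterateFrobenius F 2 2 x := by
    intro x
    rw [iterateFrobenius_def]
    norm_num
  rw [e, e a, e b, e c, e d, map_add, map_add, map_add]

theorem pf4_eq {M : Matrix (Fin 4) (Fin 4) F} (hM : Pred M) : pf4 M = M.trace ^ 4 := by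
  obtain ⟨hf, hs⟩ := hM
  have h2 : (2 : F) = 0 := CharTwo.two_eq_zero
  have ht := form_transpose hf
  have s0 : M 0 0 * M 1 1 - M 1 0 * M 0 1 = M 0 0 ^ 4 := by
    have := congrFun (congrFun hs 0) 0
    simpa [Cfsg.Lie.star4, Cfsg.Lie.pairOf] using this
  have s1 : M 0 0 * M 2 2 - M 2 0 * M 0 2 = M 1 1 ^ 4 := by
    have := congrFun (congrFun hs 1) 1
    simpa [Cfsg.Lie.star4, Cfsg.Lie.pairOf] using this
  have s2 : M 1 1 * M 3 3 - M 3 1 * M 1 3 = M 2 2 ^ 4 := by
    have := congrFun (congrFun hs 2) 2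
    simpa [Cfsg.Lie.star4, Cfsg.Lie.pairOf] using this
  have s3 : M 2 2 * M 3 3 - M 3 2 * M 2 3 = M 3 3 ^ 4 := by
    have := congrFun (congrFun hs 3) 3
    simpa [Cfsg.Lie.star4, Cfsg.Lie.pairOf] using this
  have r2 : M 1 0 * M 2 3 + M 1 1 * M 2 2 + M 1 2 * M 2 1 + M 1 3 * M 2 0 = 1 := by
    have := mulJ_apply M Mᵀ 1 2
    rw [ht] at this
    simp only [Matrix.transpose_apply] at this
    rw [← this]
    simp [J4]
  have r3 : M 0 1 * M 3 2 + M 1 1 * M 2 2 + M 2 1 * M 1 2 + M 3 1 * M 0 2 = 1 := by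
    have := mulJ_apply Mᵀ M 1 2
    rw [hf] at this
    simp only [Matrix.transpose_apply] at this
    rw [← this]
    simp [J4]
  have htr : M.trace = M 0 0 + M 1 1 + M 2 2 + M 3 3 := by
    simp [Matrix.trace, Fin.sum_univ_four]
  rw [htr, pow4_add4]
  unfold pf4
  linear_combination s0 + s1 + s2 + s3 + r3 - r2 + (M 2 0 * M 1 3 - M 3 2 * M 0 1) * h2

theorem mat_add_self (A : Matrix (Fin 4) (Fin 4) F) : A + A = 0 := by
  ext i j
  simp [CharTwo.add_self_eq_zero]

theorem mat_neg (A : Matrix (Fin 4) (Fin 4) F) : -A = A := by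
  ext i j
  simp [CharTwo.neg_eq]

end

/-- **[CH]** the key identity. -/
theorem pkgCH : PkgCH.{u} := by
  intro F _ _ _ _ M hM
  have hf := hM.1
  have hpf := pf4_eq hM
  have hNM : sadj M * M = 1 := by
    rw [sadj_eq]
    calc J4 F * Mᵀ * J4 F * M = J4 F * (Mᵀ * J4 F * M) := by simp only [Matrix.mul_assoc]
      _ = 1 := by rw [hf, J4_mul_J4]
  have hMN : M * sadj M = 1 := mul_eq_one_comm.1 hNM
  have hq := quad_id M
  rw [hpf, sub_eq_add_neg, mat_neg] at hq
  -- multiply by `M * M`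
  have e1 : M * M * (M + sadj M) = M ^ 3 + M := by
    rw [Matrix.mul_add, Matrix.mul_assoc M M (sadj M), hMN, Matrix.mul_one]
    congr 1
    rw [pow_succ, pow_two]
  have e2 : (M ^ 3 + M) * (M + sadj M) = M ^ 4 + 1 := by
    have h3 : M ^ 3 * sadj M = M * M := by
      rw [pow_succ, pow_two, Matrix.mul_assoc (M * M) M (sadj M), hMN, Matrix.mul_one]
    rw [Matrix.add_mul, Matrix.mul_add, Matrix.mul_add, h3, hMN, ← pow_succ]
    have : M ^ (3 + 1) + M * M + (M * M + 1) = M ^ 4 + 1 + (M * M + M * M) := by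
      abel
    rw [this, mat_add_self, add_zero]
  have key : M * M * ((M + sadj M) * (M + sadj M) + M.trace • (M + sadj M) +
      M.trace ^ 4 • (1 : Matrix (Fin 4) (Fin 4) F)) = 0 := by
    rw [hq, Matrix.mul_zero]
  rw [Matrix.mul_add, Matrix.mul_add, ← Matrix.mul_assoc, e1, e2, Matrix.mul_smul, e1,
    Matrix.mul_smul, Matrix.mul_one, smul_add] at key
  rw [← key, pow_two]
  abel

end Cfsg.Agent.Lib.Helper12.PG63
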