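import Cfsg.Agent.Lib.Helper14.PG63.Defs

/-!
# PG63 (S3664), package [PM]: `Pred` is closed under products
-/

set_option autoImplicit false

namespace Cfsg.Agent.Lib.Helper12.PG63

open Matrix Cfsg.Agent.Lib.Helper14.PG63

universe u

/-- Cauchy–Binet for two rows and two columns, with the two "antidiagonal" pairs cancelling. -/
theorem cb4 {R : Type u} [CommRing R] (h2 : (2 : R) = 0) (x y u v : Fin 4 → R)
    (hM : x 0 * y 3 + x 1 * y 2 + x 2 * y 1 + x 3 * y 0 = 0)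
    (hM' : u 0 * v 3 + u 1 * v 2 + u 2 * v 1 + u 3 * v 0 = 0) :
    (x 0 * u 0 + x 1 * u 1 + x 2 * u 2 + x 3 * u 3) *
        (y 0 * v 0 + y 1 * v 1 + y 2 * v 2 + y 3 * v 3) -
      (y 0 * u 0 + y 1 * u 1 + y 2 * u 2 + y 3 * u 3) *
        (x 0 * v 0 + x 1 * v 1 + x 2 * v 2 + x 3 * v 3) =
      (x 0 * y 1 - y 0 * x 1) * (u 0 * v 1 - u 1 * v 0) +
        (x 0 * y 2 - y 0 * x 2) * (u 0 * v 2 - u 2 * v 0) +
        (x 1 * y 3 - y 1 * x 3) * (u 1 * v 3 - u 3 * v 1) +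
        (x 2 * y 3 - y 2 * x 3) * (u 2 * v 3 - u 3 * v 2) := by
  linear_combination (u 1 * v 2 - u 2 * v 1) * hM - (x 0 * y 3 - y 0 * x 3) * hM' +
    (-(x 3 * y 0 + x 2 * y 1) * (u 1 * v 2 - u 2 * v 1) +
      (x 0 * y 3 - y 0 * x 3) * (u 3 * v 0 + u 2 * v 1) +
      (x 0 * y 3 - y 0 * x 3) * (u 0 * v 3 - u 3 * v 0)) * h2

section

variable {F : Type u} [Field F]

theorem mulJ_apply (A B : Matrix (Fin 4) (Fin 4) F) (k l : Fin 4) :
    (A * J4 F * B) k l = A k 0 * B 3 l + A k 1 * B 2 l + A k 2 * B 1 l + A k 3 * B 0 l := by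
  simp [Matrix.mul_apply, Fin.sum_univ_four, J4]
  ring

theorem J4_mul_J4 : J4 F * J4 F = 1 := by
  ext i j
  fin_cases i <;> fin_cases j <;> simp [J4, Matrix.mul_apply, Fin.sum_univ_four]

theorem J4_pair (p : Fin 4) : J4 F (Cfsg.Lie.pairOf p).1 (Cfsg.Lie.pairOf p).2 = 0 := by
  fin_cases p <;> simp [J4, Cfsg.Lie.pairOf]

/-- the form is also preserved by the transpose -/
theorem form_transpose {M : Matrix (Fin 4) (Fin 4) F} (h : Mᵀ * J4 F * M = J4 F) :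
    M * J4 F * Mᵀ = J4 F := by
  have h1 : (J4 F * Mᵀ * J4 F) * M = 1 := by
    calc (J4 F * Mᵀ * J4 F) * M = J4 F * (Mᵀ * J4 F * M) := by simp only [Matrix.mul_assoc]
      _ = 1 := by rw [h, J4_mul_J4]
  have h2 : M * (J4 F * Mᵀ * J4 F) = 1 := mul_eq_one_comm.1 h1
  calc M * J4 F * Mᵀ = M * (J4 F * Mᵀ * J4 F) * J4 F := by
        simp only [Matrix.mul_assoc]
        rw [J4_mul_J4, Matrix.mul_one]
    _ = J4 F := by rw [h2, Matrix.one_mul]

theorem star4_apply (M : Matrix (Fin 4) (Fin 4) F) (p r : Fin 4) :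
    Cfsg.Lie.star4 M p r =
      M (Cfsg.Lie.pairOf p).1 (Cfsg.Lie.pairOf r).1 * M (Cfsg.Lie.pairOf p).2 (Cfsg.Lie.pairOf r).2 -
        M (Cfsg.Lie.pairOf p).2 (Cfsg.Lie.pairOf r).1 *
          M (Cfsg.Lie.pairOf p).1 (Cfsg.Lie.pairOf r).2 := rfl

/-- `star4` is multiplicative on form-preserving matrices in characteristic two. -/
theorem star4_mul [CharP F 2] {M M' : Matrix (Fin 4) (Fin 4) F}
    (h : Mᵀ * J4 F * M = J4 F) (h' : M'ᵀ * J4 F * M' = J4 F) :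
    Cfsg.Lie.star4 (M * M') = Cfsg.Lie.star4 M * Cfsg.Lie.star4 M' := by
  have h2 : (2 : F) = 0 := CharTwo.two_eq_zero
  have ht := form_transpose h
  ext p r
  have e1 : M (Cfsg.Lie.pairOf p).1 0 * M (Cfsg.Lie.pairOf p).2 3 +
      M (Cfsg.Lie.pairOf p).1 1 * M (Cfsg.Lie.pairOf p).2 2 +
      M (Cfsg.Lie.pairOf p).1 2 * M (Cfsg.Lie.pairOf p).2 1 +
      M (Cfsg.Lie.pairOf p).1 3 * M (Cfsg.Lie.pairOf p).2 0 = 0 := by
    have := mulJ_apply M Mᵀ (Cfsg.Lie.pairOf p).1 (Cfsg.Lie.pairOf p).2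
    rw [ht, J4_pair] at this
    simp only [Matrix.transpose_apply] at this
    exact this.symm
  have e2 : M' 0 (Cfsg.Lie.pairOf r).1 * M' 3 (Cfsg.Lie.pairOf r).2 +
      M' 1 (Cfsg.Lie.pairOf r).1 * M' 2 (Cfsg.Lie.pairOf r).2 +
      M' 2 (Cfsg.Lie.pairOf r).1 * M' 1 (Cfsg.Lie.pairOf r).2 +
      M' 3 (Cfsg.Lie.pairOf r).1 * M' 0 (Cfsg.Lie.pairOf r).2 = 0 := by
    have := mulJ_apply M'ᵀ M' (Cfsg.Lie.pairOf r).1 (Cfsg.Lie.pairOf r).2
    rw [h', J4_pair] at this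
    simp only [Matrix.transpose_apply] at this
    exact this.symm
  have key := cb4 h2 (fun a => M (Cfsg.Lie.pairOf p).1 a) (fun a => M (Cfsg.Lie.pairOf p).2 a)
    (fun a => M' a (Cfsg.Lie.pairOf r).1) (fun a => M' a (Cfsg.Lie.pairOf r).2) e1 e2
  rw [star4_apply, Matrix.mul_apply, Fin.sum_univ_four]
  simp only [star4_apply, Matrix.mul_apply, Fin.sum_univ_four]
  simp only [Cfsg.Lie.pairOf] at key ⊢
  simp only [Matrix.cons_val_zero, Matrix.cons_val_one, Matrix.cons_val_two,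
    Matrix.cons_val_three, Matrix.head_cons, Matrix.tail_cons] at key ⊢
  linear_combination key

theorem map_pow4_mul [CharP F 2] (M M' : Matrix (Fin 4) (Fin 4) F) :
    (M * M').map (fun x => x ^ 4) = M.map (fun x => x ^ 4) * M'.map (fun x => x ^ 4) := by
  have e : (fun x : F => x ^ 4) = ⇑(iterateFrobenius F 2 2) := by
    funext x
    rw [iterateFrobenius_def]
    norm_num
  rw [e]
  exact Matrix.map_mul

end

/-- **[PM]** `Pred` is closed under products. -/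
theorem pkgPM : PkgPM.{u} := by
  intro F _ _ M M' hM hM'
  obtain ⟨hf, hs⟩ := hM
  obtain ⟨hf', hs'⟩ := hM'
  refine ⟨?_, ?_⟩
  · rw [Matrix.transpose_mul]
    calc M'ᵀ * Mᵀ * J4 F * (M * M') = M'ᵀ * (Mᵀ * J4 F * M) * M' := by
          simp only [Matrix.mul_assoc]
      _ = J4 F := by rw [hf, hf']
  · rw [map_pow4_mul, ← hs, ← hs']
    exact star4_mul hf hf'

end Cfsg.Agent.Lib.Helper12.PG63
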